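import Cfsg.Agent.H732.VZ.Div
import Cfsg.Agent.H604.OZ.Basic

/-!
# One vanishing class: excess of several classes (helper30, S4842)

`Ex χ Y t` : `Y` is a Galois-stable set without zeros of `χ`, and `|Y| + t |G| ≤ ∑_{g ∈ Y} |χ g|²`.
* `Ex.union` : disjoint unions;  `Ex.cent_le` : `|C(x)| t ≤ 1` if `χ` vanishes exactly at the class of `x`;
* `ex_rat` : the class of a rational element `y` with `n ∣ χ y`, `t = (n² - 1) / B`, `|C(y)| ≤ B`;
* `ex_two` : the classes of `y` and `y ^ j` (all Galois conjugates), `y` an `r`-element, `r ∣ χ 1`, `t = 2 (r - 1) / B`;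
* `isIntegral_div_of_elt` : `y` an `r`-element, rational, `r ∣ χ 1`: `r ∣ χ y`;
* `isIntegral_div_pow` : `r ^ (a + b) ∣ χ 1`, `r ^ (b + 1) ∤ |G : C(y)|`: `r ^ a ∣ χ y`.
-/

set_option autoImplicit false
set_option linter.unusedSectionVars false

namespace Cfsg.Agent.H30.OZ

open Cfsg Cfsg.Agent.Characters Cfsg.Agent.CharactersDeep Cfsg.Agent.H686.CharKit Finset
open Cfsg.Agent.H732.VZ Cfsg.Agent.H695.OneZero

universe u

variable {G : Type u} [Group G]

/-- the order of the centralizer -/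
noncomputable abbrev cent (x : G) : ℕ := Nat.card (Subgroup.centralizer ({x} : Set G))

variable [Fintype G]

/-- The class of `y`. -/
noncomputable def cls (y : G) : Finset G := by
  classical
  exact univ.filter fun g => IsConj y g

theorem mem_cls {y g : G} : g ∈ cls y ↔ IsConj y g := by
  classical
  simp [cls]

theorem card_cls (y : G) : (cls y).card * cent y = Nat.card G := by
  classical
  have h1 : (cls y).card = Nat.card {g : G // IsConj y g} := by
    rw [cls, ← Fintype.card_subtype, ← Nat.card_eq_fintype_card]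
  rw [h1, ← CentralCharacter.index_centralizer_eq_card, mul_comm, Subgroup.card_mul_index]

theorem disj_cls {y y' : G} (h : ¬ IsConj y y') : Disjoint (cls y) (cls y') := by
  rw [Finset.disjoint_left]
  intro g h1 h2
  exact h ((mem_cls.1 h1).trans (mem_cls.1 h2).symm)

/-- `Y` is Galois-stable, without zeros, with an excess of at least `t |G|`. -/
structure Ex (χ : IrrCharacter G) (Y : Finset G) (t : ℝ) : Prop where
  gal : Gal Y
  ne : ∀ g ∈ Y, (χ : G → ℂ) g ≠ 0
  le : Y.card + t * Nat.card G ≤ ∑ g ∈ Y, Complex.normSq ((χ : G → ℂ) g)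

variable {χ : IrrCharacter G} {x : G}

theorem Ex.union [DecidableEq G] {Y Y' : Finset G} {t t' : ℝ} (h : Ex χ Y t) (h' : Ex χ Y' t') (hd : Disjoint Y Y') :
    Ex χ (Y ∪ Y') (t + t') := by
  refine ⟨h.gal.union h'.gal, fun g hg => ?_, ?_⟩
  · rcases mem_union.1 hg with hg | hg
    · exact h.ne g hg
    · exact h'.ne g hg
  · rw [sum_union hd, card_union_of_disjoint hd]
    have h1 := h.le
    have h2 := h'.le
    push_cast
    linarith

theorem Ex.mono {Y : Finset G} {t t' : ℝ} (h : Ex χ Y t) (ht : t' ≤ t) : Ex χ Y t' := by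
  refine ⟨h.gal, h.ne, le_trans ?_ h.le⟩
  have : (0 : ℝ) ≤ Nat.card G := by positivity
  nlinarith

/-- **The excess inequality.** -/
theorem Ex.cent_le {Y : Finset G} {t : ℝ} (hY : Ex χ Y t) (h : One χ x) : (cent x : ℝ) * t ≤ 1 := by
  classical
  have h1 := hY.le.trans (sum_le χ hY.gal hY.ne)
  have h2 : (((univ.filter fun g : G => (χ : G → ℂ) g = 0).card : ℕ) : ℝ) * cent x = Nat.card G := by
    exact_mod_cast card_zeros h
  have h3 : t * Nat.card G ≤ ((univ.filter fun g : G => (χ : G → ℂ) g = 0).card : ℝ) := by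
    linarith
  have hG : (0 : ℝ) < Nat.card G := by exact_mod_cast Nat.card_pos
  have hc : (0 : ℝ) < cent x := by exact_mod_cast Nat.card_pos
  have h4 := mul_le_mul_of_nonneg_right h3 hc.le
  rw [h2] at h4
  have h5 : ((cent x : ℝ) * t) * Nat.card G ≤ 1 * Nat.card G := by linarith
  exact le_of_mul_le_mul_right h5 hG

/-- the form used in the rows: `|C(x)| t > 1` is impossible -/
theorem Ex.false {Y : Finset G} {t : ℝ} (hY : Ex χ Y t) (h : One χ x) {c : ℕ} (hc : c ≤ cent x) (ht : 0 ≤ t)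
    (hct : 1 < (c : ℝ) * t) : False := by
  have h1 := hY.cent_le h
  have h2 : (c : ℝ) ≤ cent x := by exact_mod_cast hc
  nlinarith

theorem gal_of_iff {P : G → Prop} {Y : Finset G} (hY : ∀ g, g ∈ Y ↔ P g)
    (h : ∀ g, P g → ∀ k : ℕ, k.Coprime (Nat.card G) → P (g ^ k)) : Gal Y := fun g hg k hk =>
  (hY _).2 (h g ((hY g).1 hg) k hk)

theorem isConj_pow {a b : G} (h : IsConj a b) (k : ℕ) : IsConj (a ^ k) (b ^ k) := by
  obtain ⟨c, rfl⟩ := isConj_iff.1 h
  exact isConj_iff.2 ⟨c, by rw [conj_pow]⟩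

theorem gal_cls {y : G} (hy : ∀ k : ℕ, k.Coprime (Nat.card G) → IsConj y (y ^ k)) : Gal (cls y) :=
  gal_of_iff (fun _ => mem_cls) fun _ hg k hk => (hy k hk).trans (isConj_pow hg k)

theorem apply_conj {g y : G} (h : IsConj y g) : (χ : G → ℂ) g = (χ : G → ℂ) y := by
  obtain ⟨c, rfl⟩ := isConj_iff.1 h
  exact Core.isIrr_isClassFunction χ.2 y c

theorem ne_of_one (h : One χ x) {y : G} (hy : ¬ IsConj x y) : (χ : G → ℂ) y ≠ 0 := fun h0 => hy (h.uniq y h0)

/-- **The class of a rational element.** -/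
theorem ex_rat {y : G} (hy : ∀ k : ℕ, k.Coprime (Nat.card G) → IsConj y (y ^ k)) (h0 : (χ : G → ℂ) y ≠ 0)
    {n : ℕ} (hn : 0 < n) (hint : IsIntegral ℤ ((χ : G → ℂ) y / n)) {B : ℕ} (hB : cent y ≤ B) :
    Ex χ (cls y) (((n : ℝ) ^ 2 - 1) / B) := by
  classical
  have hne : ∀ g ∈ cls y, (χ : G → ℂ) g ≠ 0 := fun g hg => by rw [apply_conj (mem_cls.1 hg)]; exact h0
  refine ⟨gal_cls hy, hne, ?_⟩
  have h1 := card_mul_le χ (gal_cls hy) hne hn fun g hg => by rw [apply_conj (mem_cls.1 hg)]; exact hint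
  refine le_trans ?_ h1
  have h2 : ((cls y).card : ℝ) * cent y = Nat.card G := by exact_mod_cast card_cls y
  have hc : (0 : ℝ) < cent y := by exact_mod_cast Nat.card_pos
  have hB' : (cent y : ℝ) ≤ B := by exact_mod_cast hB
  have hBp : (0 : ℝ) < B := hc.trans_le hB'
  have hn' : (1 : ℝ) ≤ n := by exact_mod_cast hn
  have h3 : (0 : ℝ) ≤ (n : ℝ) ^ 2 - 1 := by nlinarith
  have h4 : ((n : ℝ) ^ 2 - 1) / B * Nat.card G ≤ ((n : ℝ) ^ 2 - 1) * (cls y).card := by
    rw [← h2, div_mul_eq_mul_div, div_le_iff₀ hBp]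
    have h5 : (0 : ℝ) ≤ (cls y).card := by positivity
    nlinarith [mul_le_mul_of_nonneg_left hB' (mul_nonneg h3 h5)]
  linarith

/-- The value at an `r`-element is congruent to the degree. -/
theorem av_sub_mem {r : ℕ} (hr : r.Prime) {M : Ideal AlgInt} (hM : M.IsPrime)
    (hrM : (r : AlgInt) ∈ M) (χ : IrrCharacter G) {y : G} {k : ℕ} (hy : y ^ r ^ k = 1) : av χ y - av χ 1 ∈ M := by
  have hpow : (y ^ 0) ^ (r ^ k) = y ^ (r ^ k) := by rw [pow_zero, one_pow, hy]
  obtain ⟨m, hm, hmv⟩ := BrauerLocal.congr_of_mem_achar hr hM hrM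
    (AChar.mem_achar_of_isCharacter (Core.isIrr_isCharacter χ.2)) y hpow
  have : av χ y - av χ 1 = m := by
    apply Subtype.ext
    rw [hmv, pow_zero]
    rfl
  rw [this]
  exact hm

theorem av_mem {r : ℕ} (hr : r.Prime) {M : Ideal AlgInt} (hM : M.IsPrime)
    (hrM : (r : AlgInt) ∈ M) {y : G} {k : ℕ} (hy : y ^ r ^ k = 1) (hd : r ∣ charDegree (χ : G → ℂ)) : av χ y ∈ M := by
  have h1 := av_sub_mem hr hM hrM χ hy
  obtain ⟨e, he⟩ := hd
  have h2 : av χ 1 = (r : AlgInt) * (e : AlgInt) := by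
    apply Subtype.ext
    have h3 : (χ : G → ℂ) 1 = (r : ℂ) * e := by rw [← charDegree_irr χ, he]; push_cast; ring
    simpa using h3
  have h3 : av χ 1 ∈ M := by rw [h2]; exact Ideal.mul_mem_right _ _ hrM
  have h4 := M.add_mem h1 h3
  rwa [sub_add_cancel] at h4

/-- A Galois-invariant integral number is an integer. -/
theorem exists_int {z : ℂ} (hz : IsIntegral ℤ z) (h : ∀ σ : ℂ ≃+* ℂ, σ z = z) : ∃ k : ℤ, z = k :=
  GaloisBasic.exists_int_of_isIntegral hz (GaloisBasic.exists_rat_of_forall_ringEquiv hz.tower_top h)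

theorem isIntegral_val (χ : IrrCharacter G) (g : G) : IsIntegral ℤ ((χ : G → ℂ) g) :=
  GaloisBasic.isIntegral_apply (Core.isIrr_isCharacter χ.2) g

/-- the value at a rational element is an integer -/
theorem exists_int_val {y : G} (hy : ∀ k : ℕ, k.Coprime (Nat.card G) → IsConj y (y ^ k)) (χ : IrrCharacter G) :
    ∃ k : ℤ, (χ : G → ℂ) y = k := by
  refine exists_int (isIntegral_val χ y) fun σ => ?_
  obtain ⟨k, hk, hσ⟩ := GaloisBasic.exists_pow_of_ringEquiv (G := G) σ
  rw [hσ _ (Core.isIrr_isCharacter χ.2), apply_conj (hy k hk)]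

/-- **Divisibility at rational `r`-elements.** -/
theorem isIntegral_div_of_elt {y : G} (hy : ∀ k : ℕ, k.Coprime (Nat.card G) → IsConj y (y ^ k)) {r : ℕ} (hr : r.Prime)
    {k : ℕ} (hyr : y ^ r ^ k = 1) (hd : r ∣ charDegree (χ : G → ℂ)) : IsIntegral ℤ ((χ : G → ℂ) y / r) := by
  obtain ⟨M, hM, hrM⟩ := BrauerLocal.exists_maximal r hr
  obtain ⟨m, hm⟩ := exists_int_val hy χ
  have h1 := av_mem hr hM.isPrime hrM hyr hd
  have h2 : av χ y = (m : AlgInt) := by
    apply Subtype.ext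
    simpa using hm
  rw [h2] at h1
  obtain ⟨e, he⟩ := (int_mem_iff hr hM.isPrime hrM m).1 h1
  have hrC : (r : ℂ) ≠ 0 := by exact_mod_cast hr.ne_zero
  have h3 : (χ : G → ℂ) y / r = (e : ℤ) := by
    rw [hm, he]
    push_cast
    field_simp
  rw [h3]
  simpa using isIntegral_algebraMap (R := ℤ) (A := ℂ) (x := e)

/-- **Divisibility from the length of the class.** -/
theorem isIntegral_div_pow {y : G} {r a b : ℕ} (hr : r.Prime) (hd : r ^ (a + b) ∣ charDegree (χ : G → ℂ))
    (hm : ¬ r ^ (b + 1) ∣ (Subgroup.centralizer ({y} : Set G)).index) :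
    IsIntegral ℤ ((χ : G → ℂ) y / (r ^ a : ℕ)) := by
  have hrC : (r : ℂ) ≠ 0 := by exact_mod_cast hr.ne_zero
  have hI : ∀ a : ℤ, IsIntegral ℤ (a : ℂ) := fun a => by
    simpa using isIntegral_algebraMap (R := ℤ) (A := ℂ) (x := a)
  obtain ⟨d, hd⟩ := hd
  have hd0 : (d : ℂ) ≠ 0 := by
    have := charDegree_pos χ
    rw [hd] at this
    have : d ≠ 0 := by rintro rfl; simp at this
    exact_mod_cast this
  have h1 : IsIntegral ℤ (((Subgroup.centralizer ({y} : Set G)).index : ℂ) * (χ : G → ℂ) y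
      / (χ : G → ℂ) 1) := by
    obtain ⟨n, ρ, hρ, hχ⟩ := χ.2
    have := CentralCharacter.isIntegral_index_mul_character_div ρ y
    have hfin : (Module.finrank ℂ (Fin n → ℂ) : ℂ) = (χ : G → ℂ) 1 := by
      rw [← hχ, Representation.char_one]
    rw [hfin, hχ] at this
    exact this
  have h2 : IsIntegral ℤ (((Subgroup.centralizer ({y} : Set G)).index : ℂ)
      * ((χ : G → ℂ) y / (r : ℂ) ^ (a + b))) := by
    have h3 : ((Subgroup.centralizer ({y} : Set G)).index : ℂ) * ((χ : G → ℂ) y / (r : ℂ) ^ (a + b))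
        = (d : ℂ) * (((Subgroup.centralizer ({y} : Set G)).index : ℂ) * (χ : G → ℂ) y
          / (χ : G → ℂ) 1) := by
      rw [← charDegree_irr χ, hd]
      push_cast
      field_simp
    rw [h3]
    exact IsIntegral.mul (by simpa using hI (d : ℤ)) h1
  obtain ⟨b', hb', hg⟩ := (Nat.dvd_prime_pow hr).1 (Nat.gcd_dvd_right
    ((Subgroup.centralizer ({y} : Set G)).index) (r ^ (a + b)))
  have hb : b' ≤ b := by
    by_contra hlt
    apply hm
    refine dvd_trans (pow_dvd_pow r (by omega : b + 1 ≤ b')) ?_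
    rw [← hg]
    exact Nat.gcd_dvd_left _ _
  have hbez := Nat.gcd_eq_gcd_ab ((Subgroup.centralizer ({y} : Set G)).index) (r ^ (a + b))
  rw [hg] at hbez
  set u := ((Subgroup.centralizer ({y} : Set G)).index).gcdA (r ^ (a + b))
  set v := ((Subgroup.centralizer ({y} : Set G)).index).gcdB (r ^ (a + b))
  have hbez' : (r : ℂ) ^ b' = ((Subgroup.centralizer ({y} : Set G)).index : ℂ) * u + (r : ℂ) ^ (a + b) * v := by
    exact_mod_cast hbez
  have h5 : (χ : G → ℂ) y / (r ^ a : ℕ) = (r : ℂ) ^ (b - b') * ((u : ℂ) *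
      (((Subgroup.centralizer ({y} : Set G)).index : ℂ) * ((χ : G → ℂ) y / (r : ℂ) ^ (a + b)))
      + (v : ℂ) * (χ : G → ℂ) y) := by
    have h6 : ((u : ℂ) * (((Subgroup.centralizer ({y} : Set G)).index : ℂ) * ((χ : G → ℂ) y / (r : ℂ) ^ (a + b)))
      + (v : ℂ) * (χ : G → ℂ) y) = (r : ℂ) ^ b' * ((χ : G → ℂ) y / (r : ℂ) ^ (a + b)) := by
      rw [hbez']
      field_simp
    rw [h6, ← mul_assoc, ← pow_add, Nat.sub_add_cancel hb]
    push_cast
    rw [pow_add]
    field_simp
  rw [h5]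
  refine IsIntegral.mul ?_ (((hI u).mul h2).add ((hI v).mul (isIntegral_val χ y)))
  have := hI ((r ^ (b - b') : ℕ) : ℤ)
  simpa using this

theorem normSq_mul_ge (a b : ℂ) {n : ℕ} (h : (n : ℝ) ^ 2 ≤ Complex.normSq (a * b)) :
    2 * (n : ℝ) ≤ Complex.normSq a + Complex.normSq b := by
  rw [map_mul] at h
  have h1 := Complex.normSq_nonneg a
  have h2 := Complex.normSq_nonneg b
  by_contra hlt
  push Not at hlt
  have h3 : (Complex.normSq a + Complex.normSq b) ^ 2 < (2 * (n : ℝ)) ^ 2 := by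
    have : (0 : ℝ) ≤ Complex.normSq a + Complex.normSq b := by linarith
    nlinarith
  nlinarith [sq_nonneg (Complex.normSq a - Complex.normSq b)]

/-- **The two classes of a quadratic `r`-element.** -/
theorem ex_two [DecidableEq G] {y : G} {j : ℕ} (hj : j.Coprime (orderOf y)) (hjj : IsConj y (y ^ (j * j)))
    (hy : ∀ k : ℕ, k.Coprime (orderOf y) → IsConj y (y ^ k) ∨ IsConj (y ^ j) (y ^ k))
    (h0 : (χ : G → ℂ) y ≠ 0) (h0' : (χ : G → ℂ) (y ^ j) ≠ 0)
    {r : ℕ} (hr : r.Prime) {k : ℕ} (hyr : y ^ r ^ k = 1) (hd : r ∣ charDegree (χ : G → ℂ)) {B : ℕ} (hB : cent y ≤ B) :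
    Ex χ (cls y ∪ cls (y ^ j)) (2 * ((r : ℝ) - 1) / B) := by
  have hcop : ∀ k : ℕ, k.Coprime (Nat.card G) → k.Coprime (orderOf y) := fun k hk =>
    Nat.Coprime.coprime_dvd_right (orderOf_dvd_natCard y) hk
  -- powers of the second class
  have hy2 : ∀ k : ℕ, k.Coprime (orderOf y) →
      (IsConj y (y ^ k) → IsConj (y ^ j) ((y ^ j) ^ k)) ∧ (IsConj (y ^ j) (y ^ k) → IsConj y ((y ^ j) ^ k)) := by
    intro k hk
    refine ⟨fun h => ?_, fun h => ?_⟩
    · rw [← pow_mul, mul_comm, pow_mul]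
      exact isConj_pow h j
    · rw [← pow_mul, mul_comm, pow_mul]
      have h1 := isConj_pow h j
      rw [← pow_mul] at h1
      exact hjj.trans h1
  by_cases hc : IsConj y (y ^ j)
  · -- rational
    have hrat : ∀ k : ℕ, k.Coprime (Nat.card G) → IsConj y (y ^ k) := fun k hk => by
      rcases hy k (hcop k hk) with h | h
      · exact h
      · exact hc.trans h
    have hcl : cls (y ^ j) = cls y := by
      ext g
      rw [mem_cls, mem_cls]
      exact ⟨fun h => hc.trans h, fun h => hc.symm.trans h⟩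
    rw [hcl, union_self]
    refine (ex_rat hrat h0 hr.pos (isIntegral_div_of_elt hrat hr hyr hd) hB).mono ?_
    have hc0 : (0 : ℝ) < cent y := by exact_mod_cast Nat.card_pos
    have hBp : (0 : ℝ) < B := hc0.trans_le (by exact_mod_cast hB)
    rw [div_le_div_iff_of_pos_right hBp]
    have : (2 : ℝ) ≤ r := by exact_mod_cast hr.two_le
    nlinarith
  -- two classes
  have hsq : ∀ σ : ℂ ≃+* ℂ, σ ((χ : G → ℂ) y * (χ : G → ℂ) (y ^ j)) = (χ : G → ℂ) y * (χ : G → ℂ) (y ^ j) := by
    intro σ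
    obtain ⟨k, hk, hσ⟩ := GaloisBasic.exists_pow_of_ringEquiv (G := G) σ
    rw [map_mul, hσ _ (Core.isIrr_isCharacter χ.2), hσ _ (Core.isIrr_isCharacter χ.2)]
    rcases hy k (hcop k hk) with h | h
    · rw [apply_conj h, apply_conj ((hy2 k (hcop k hk)).1 h)]
    · rw [apply_conj h, apply_conj ((hy2 k (hcop k hk)).2 h), mul_comm]
  obtain ⟨m, hm⟩ := exists_int ((isIntegral_val χ y).mul (isIntegral_val χ (y ^ j))) hsq
  have hm0 : m ≠ 0 := by
    rintro rfl
    rw [Int.cast_zero] at hm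
    exact mul_ne_zero h0 h0' hm
  obtain ⟨M, hM, hrM⟩ := BrauerLocal.exists_maximal r hr
  have h1 := av_mem hr hM.isPrime hrM hyr hd
  have h2 : av χ y * av χ (y ^ j) = (m : AlgInt) := by
    apply Subtype.ext
    simpa using hm
  have h3 : (m : AlgInt) ∈ M := by rw [← h2]; exact Ideal.mul_mem_right _ _ h1
  have h4 := (int_mem_iff hr hM.isPrime hrM m).1 h3
  have h5 : (r : ℝ) ^ 2 ≤ Complex.normSq ((χ : G → ℂ) y * (χ : G → ℂ) (y ^ j)) := by
    rw [hm, Complex.normSq_intCast]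
    have h6 : (r : ℤ) ≤ |m| := Int.le_of_dvd (abs_pos.2 hm0) ((dvd_abs _ _).2 h4)
    have h7 : (r : ℤ) ^ 2 ≤ m * m := by
      rw [← abs_mul_abs_self m]
      have : (0 : ℤ) ≤ r := by positivity
      nlinarith
    exact_mod_cast h7
  have h6 := normSq_mul_ge _ _ h5
  have hdis := disj_cls hc
  have hcard : (cls (y ^ j)).card = (cls y).card := by
    have h7 : cent (y ^ j) = cent y := by
      have : Subgroup.centralizer ({y ^ j} : Set G) = Subgroup.centralizer ({y} : Set G) := by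
        ext g
        rw [Subgroup.mem_centralizer_singleton_iff, Subgroup.mem_centralizer_singleton_iff]
        constructor
        · intro h
          obtain ⟨i, hi⟩ : ∃ i : ℕ, (y ^ j) ^ i = y := exists_pow_eq_self_of_coprime hj
          have h' : Commute g (y ^ j) := h
          have h'' := h'.pow_right i
          rw [hi] at h''
          exact h''
        · intro h
          have h' : Commute g y := h
          exact h'.pow_right j
      rw [cent, this]
    have h8 := card_cls (y ^ j)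
    rw [h7, ← card_cls y] at h8
    exact Nat.eq_of_mul_eq_mul_right Nat.card_pos h8
  refine ⟨?_, ?_, ?_⟩
  · refine gal_of_iff (P := fun g => IsConj y g ∨ IsConj (y ^ j) g) (fun g => by rw [mem_union, mem_cls, mem_cls]) ?_
    rintro g (hg | hg) k hk
    · have h1 := isConj_pow hg k
      rcases hy k (hcop k hk) with h | h
      · exact Or.inl (h.trans h1)
      · exact Or.inr (h.trans h1)
    · have h1 := isConj_pow hg k
      rcases hy k (hcop k hk) with h | h
      · exact Or.inr (((hy2 k (hcop k hk)).1 h).trans h1)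
      · exact Or.inl (((hy2 k (hcop k hk)).2 h).trans h1)
  · intro g hg
    rcases mem_union.1 hg with hg | hg
    · rw [apply_conj (mem_cls.1 hg)]; exact h0
    · rw [apply_conj (mem_cls.1 hg)]; exact h0'
  · rw [sum_union hdis, card_union_of_disjoint hdis, hcard,
      sum_congr rfl (fun g hg => by rw [apply_conj (mem_cls.1 hg)]),
      sum_congr (s₁ := cls (y ^ j)) rfl (fun g hg => by rw [apply_conj (mem_cls.1 hg)]), sum_const, sum_const, hcard]
    have h2 : ((cls y).card : ℝ) * cent y = Nat.card G := by exact_mod_cast card_cls y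
    have hc : (0 : ℝ) < cent y := by exact_mod_cast Nat.card_pos
    have hB' : (cent y : ℝ) ≤ B := by exact_mod_cast hB
    have hBp : (0 : ℝ) < B := hc.trans_le hB'
    have hr2 : (2 : ℝ) ≤ r := by exact_mod_cast hr.two_le
    have h5 : (0 : ℝ) ≤ (cls y).card := by positivity
    have h4 : 2 * ((r : ℝ) - 1) / B * Nat.card G ≤ 2 * ((r : ℝ) - 1) * (cls y).card := by
      rw [← h2, div_mul_eq_mul_div, div_le_iff₀ hBp]
      nlinarith [mul_le_mul_of_nonneg_left hB' (mul_nonneg (show (0 : ℝ) ≤ 2 * ((r : ℝ) - 1) by linarith) h5)]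
    rw [nsmul_eq_mul, nsmul_eq_mul]
    push_cast
    have h7 := mul_le_mul_of_nonneg_left h6 h5
    nlinarith

end Cfsg.Agent.H30.OZ
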