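import Cfsg.Agent.H961.HeLocal
import Cfsg.Agent.H122.MinDeg
import Cfsg.Agent.H604.OZ.Basic

/-!
# The minimal degree of the Held group (helper30, S4842; after helper635, H635/CJ/He)

The centre `⟨w⟩` of a Sylow 7-subgroup (extraspecial of order 343): `w` is conjugate to `w ^ 3`, so every nontrivial
complex representation has degree at least 42.
-/

set_option autoImplicit false
set_option maxRecDepth 100000
set_option linter.unusedSectionVars false

namespace Cfsg.Agent.H30.OZ.HeMin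

open Module Cfsg Cfsg.Agent.H122 Cfsg.Agent.H121.Wt Cfsg.Agent.H121.Chr

section

variable {G : Type*} [Group G] {W : Type} [AddCommGroup W] [Module ℂ W] [FiniteDimensional ℂ W]
  (ρ : Representation ℂ G W)

theorem inj (g : G) : Function.Injective (ρ g) := by
  intro x y h
  have h1 : ∀ z, ρ g⁻¹ (ρ g z) = z := by
    intro z
    have h2 : ρ g⁻¹ * ρ g = 1 := by rw [← map_mul, inv_mul_cancel, map_one]
    exact congrArg (fun f : Module.End ℂ W => f z) h2
  rw [← h1 x, h, h1]

/-- the action of a cyclic group of order seven -/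
def x (w : G) (a : ZMod 7) : G := w ^ a.val

variable {w v s g : G}

theorem x_add (hw : w ^ 7 = 1) (a b : ZMod 7) : x w (a + b) = x w a * x w b := by
  unfold x
  rw [← pow_add, ZMod.val_add, ← pow_eq_pow_mod _ hw]

theorem x_one : x w 1 = w := pow_one w

theorem seven_le (hwv : w * v = v * w) (hws : w * s = s * w) (hsv : s * v = w * v * s)
    {χ : AddChar (ZMod 7) ℂ} (hχ : wt (fun a => ρ (x w a)) χ ≠ ⊥) (h1 : χ 1 ≠ 1) :
    7 ≤ finrank ℂ (wt (fun a => ρ (x w a)) χ) := by
  set E := wt (fun a => ρ (x w a)) χ with hE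
  have hcomm : ∀ {y : G}, w * y = y * w → ∀ z ∈ E, ρ y z ∈ E := by
    intro y hy z hz a
    show ρ (x w a) (ρ y z) = χ a • ρ y z
    have h2 : x w a * y = y * x w a := ((show Commute w y from hy).pow_left a.val).eq
    have h3 : ρ (x w a) (ρ y z) = ρ y (ρ (x w a) z) := by
      have h4 := congrArg (fun g => ρ g z) h2
      simp only [map_mul] at h4
      exact h4
    have h5 : ρ (x w a) z = χ a • z := hz a
    rw [h3, h5, map_smul]
  have hwE : ∀ z ∈ E, ρ w z = χ 1 • z := by
    intro z hz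
    have h2 : ρ (x w 1) z = χ 1 • z := hz 1
    rwa [x_one] at h2
  have hnt : Nontrivial E := Submodule.nontrivial_iff_ne_bot.2 hχ
  let f : Module.End ℂ E := (ρ v).restrict (hcomm hwv)
  let t : Module.End ℂ E := (ρ s).restrict (hcomm hws)
  obtain ⟨μ, hμ⟩ := Module.End.exists_eigenvalue f
  obtain ⟨z, hz⟩ := hμ.exists_hasEigenvector
  have hz0 : z ≠ 0 := hz.2
  have hfz : f z = μ • z := hz.apply_eq_smul
  have hti : Function.Injective t := by
    intro a b hab
    apply Subtype.ext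
    apply inj ρ s
    exact congrArg Subtype.val hab
  have hfi : Function.Injective f := by
    intro a b hab
    apply Subtype.ext
    apply inj ρ v
    exact congrArg Subtype.val hab
  have hμ0 : μ ≠ 0 := by
    intro h
    rw [h, zero_smul] at hfz
    exact hz0 (hfi (by rw [hfz, map_zero]))
  have hft : ∀ y : E, t (f y) = χ 1 • f (t y) := by
    intro y
    apply Subtype.ext
    show ρ s (ρ v (y : W)) = χ 1 • ρ v (ρ s (y : W))
    have h4 := congrArg (fun g => ρ g (y : W)) hsv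
    simp only [map_mul] at h4
    change ρ s (ρ v (y : W)) = ρ w (ρ v (ρ s (y : W))) at h4
    rw [h4]
    exact hwE _ (hcomm hwv _ (hcomm hws _ y.2))
  have hl7 : (χ 1) ^ 7 = 1 := by
    rw [← AddChar.map_nsmul_eq_pow]
    have h7 : (7 : ℕ) • (1 : ZMod 7) = 0 := by decide
    rw [h7, AddChar.map_zero_eq_one]
  have hl0 : χ 1 ≠ 0 := by
    intro h
    rw [h, zero_pow (by norm_num)] at hl7
    exact zero_ne_one hl7
  have key : ∀ i : ℕ, f ((t ^ i) z) = (((χ 1)⁻¹) ^ i * μ) • (t ^ i) z := by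
    intro i
    induction i with
    | zero => rw [pow_zero, pow_zero, one_mul]; exact hfz
    | succ i ih =>
      have h2 : (t ^ (i + 1)) z = t ((t ^ i) z) := by rw [pow_succ']; rfl
      rw [h2]
      have h3 : f (t ((t ^ i) z)) = (χ 1)⁻¹ • t (f ((t ^ i) z)) := by
        rw [hft, smul_smul, inv_mul_cancel₀ hl0, one_smul]
      rw [h3, ih, map_smul, smul_smul, pow_succ']
      congr 1
      ring
  have hne : ∀ i : ℕ, (t ^ i) z ≠ 0 := by
    intro i
    induction i with
    | zero => rw [pow_zero]; exact hz0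
    | succ i ih =>
      have h2 : (t ^ (i + 1)) z = t ((t ^ i) z) := by rw [pow_succ']; rfl
      rw [h2]
      intro h
      exact ih (hti (by rw [h, map_zero]))
  have hord : orderOf ((χ 1)⁻¹) = 7 := by
    have : Fact (Nat.Prime 7) := ⟨by norm_num⟩
    apply orderOf_eq_prime
    · rw [inv_pow, hl7, inv_one]
    · intro h
      exact h1 (inv_eq_one.1 h)
  have hlin := Module.End.eigenvectors_linearIndependent' f (fun i : Fin 7 => ((χ 1)⁻¹) ^ (i : ℕ) * μ)
    (by
      intro i j hij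
      have h2 := mul_right_cancel₀ hμ0 hij
      exact Fin.ext (pow_injOn_Iio_orderOf (by rw [hord]; exact i.2) (by rw [hord]; exact j.2) h2))
    (fun i => (t ^ (i : ℕ)) z)
    (fun i => Module.End.hasEigenvector_iff.2 ⟨Module.End.mem_eigenspace_iff.2 (key i), hne i⟩)
  have h3 := hlin.fintype_card_le_finrank
  rwa [Fintype.card_fin] at h3

theorem shift (hw : w ^ 7 = 1) (hg : g * w = w ^ 3 * g) {χ : AddChar (ZMod 7) ℂ}
    (hχ : wt (fun a => ρ (x w a)) χ ≠ ⊥) : wt (fun a => ρ (x w a)) (χ.mulShift 5) ≠ ⊥ := by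
  obtain ⟨y, hy, hy0⟩ := Submodule.exists_mem_ne_zero_of_ne_bot hχ
  have hgk : ∀ k : ℕ, g * w ^ k = w ^ (3 * k) * g := by
    intro k
    have h1 : SemiconjBy g w (w ^ 3) := hg
    have h2 := h1.pow_right k
    rw [← pow_mul] at h2
    exact h2
  apply Submodule.ne_bot_iff _ |>.2
  refine ⟨ρ g y, ?_, fun h => hy0 (inj ρ g (by rw [h, map_zero]))⟩
  intro a
  show ρ (x w a) (ρ g y) = χ.mulShift 5 a • ρ g y
  have h1 : x w a * g = g * x w (5 * a) := by
    unfold x
    rw [hgk, pow_eq_pow_mod _ hw, pow_eq_pow_mod (3 * _) hw]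
    congr 2
    revert a
    decide
  have h2 := congrArg (fun g => ρ g y) h1
  simp only [map_mul] at h2
  have h3 : ρ (x w a) (ρ g y) = ρ g (ρ (x w (5 * a)) y) := h2
  have h4 : ρ (x w (5 * a)) y = χ (5 * a) • y := hy (5 * a)
  rw [h3, h4, map_smul, AddChar.mulShift_apply]

theorem shift_pow (hw : w ^ 7 = 1) (hg : g * w = w ^ 3 * g) {χ : AddChar (ZMod 7) ℂ}
    (hχ : wt (fun a => ρ (x w a)) χ ≠ ⊥) (i : ℕ) : wt (fun a => ρ (x w a)) (χ.mulShift (5 ^ i)) ≠ ⊥ := by
  induction i with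
  | zero =>
    have : χ.mulShift ((5 : ZMod 7) ^ 0) = χ := by
      ext a
      rw [AddChar.mulShift_apply, pow_zero, one_mul]
    rw [this]
    exact hχ
  | succ i ih =>
    have h1 := shift ρ hw hg ih
    have : (χ.mulShift ((5 : ZMod 7) ^ i)).mulShift 5 = χ.mulShift (5 ^ (i + 1)) := by
      ext a
      rw [AddChar.mulShift_apply, AddChar.mulShift_apply, AddChar.mulShift_apply, pow_succ, mul_assoc]
    rwa [this] at h1

end

theorem pow_five : ∀ a : ZMod 7, a ≠ 0 → ∃ i : Fin 6, a = 5 ^ (i : ℕ) := by decide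

/-- **The bound.** -/
theorem minDeg_seven {G : Type*} [Group G] [IsSimpleGroup G] {w v s g : G} (hw : w ^ 7 = 1) (hw1 : w ≠ 1)
    (hwv : w * v = v * w) (hws : w * s = s * w) (hsv : s * v = w * v * s) (hg : g * w = w ^ 3 * g) :
    MinDeg G 42 := by
  classical
  intro M _ _ _ ρ hρ
  have hR : IsAct fun a => ρ (x w a) := isAct_of ρ (x_add hw)
  obtain ⟨χ, hχ, hχ1⟩ := exists_wt hR (a := (1 : ZMod 7)) (by
    show ρ (x w 1) ≠ 1
    rw [x_one]
    exact faithful ρ hρ hw1)
  have hl7 : (χ 1) ^ 7 = 1 := by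
    rw [← AddChar.map_nsmul_eq_pow]
    have h7 : (7 : ℕ) • (1 : ZMod 7) = 0 := by decide
    rw [h7, AddChar.map_zero_eq_one]
  have hord : orderOf (χ 1) = 7 := by
    have : Fact (Nat.Prime 7) := ⟨by norm_num⟩
    exact orderOf_eq_prime hl7 hχ1
  have hval : ∀ a : ZMod 7, χ a = χ 1 ^ a.val := by
    intro a
    rw [← AddChar.map_nsmul_eq_pow]
    congr 1
    rw [nsmul_eq_mul, mul_one, ZMod.natCast_val, ZMod.cast_id', id_eq]
  have hinj : ∀ a b : ZMod 7, χ a = χ b → a = b := by
    intro a b h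
    rw [hval a, hval b] at h
    exact ZMod.val_injective 7 (pow_injOn_Iio_orderOf (by rw [hord]; exact ZMod.val_lt a)
      (by rw [hord]; exact ZMod.val_lt b) h)
  have hS : ((Finset.univ.filter fun a : ZMod 7 => a ≠ 0).image fun a => χ.mulShift a).card = 6 := by
    rw [Finset.card_image_of_injOn]
    · decide
    · intro a _ b _ h
      have h1 : χ.mulShift a 1 = χ.mulShift b 1 := congrArg (fun f : AddChar (ZMod 7) ℂ => f 1) h
      rw [AddChar.mulShift_apply, AddChar.mulShift_apply, mul_one, mul_one] at h1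
      exact hinj a b h1
  have h1 := mul_card_le hR ((Finset.univ.filter fun a : ZMod 7 => a ≠ 0).image fun a => χ.mulShift a) 7 (by
    intro ξ hξ
    obtain ⟨a, ha, rfl⟩ := Finset.mem_image.1 hξ
    rw [Finset.mem_filter] at ha
    have h2 : wt (fun a => ρ (x w a)) (χ.mulShift a) ≠ ⊥ := by
      obtain ⟨i, rfl⟩ := pow_five a ha.2
      exact shift_pow ρ hw hg hχ i
    refine seven_le ρ hwv hws hsv h2 ?_
    rw [AddChar.mulShift_apply, mul_one]
    intro h
    apply ha.2
    apply hinj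
    rw [h, AddChar.map_zero_eq_one])
  rw [hS] at h1
  exact h1

open Cfsg.Spor.He Cfsg.Agent.SporadicB.HePerm Cfsg.Agent.FixBN.HeStab Cfsg.Agent.KFacts.He.Lv
open Cfsg.Agent.H961.HeLocal

/-- the element mapping `w` to its cube -/
def Wg : List Gen := [.d, .c, .b, .d, .c, .b, .d, .f, .c, .d, .c, .d, .e, .b]

theorem rel_g : wd Wg * wd Ww = wd Ww ^ 3 * wd Wg := by
  have h := eq_of_chkB (v := Wg ++ Ww) (w := pw Ww 3 ++ Wg) (by decide +kernel)
  rwa [wd_append, wd_append, wd_pw] at h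

theorem minDeg [IsSimpleGroup Cfsg.Spor.He] : MinDeg Cfsg.Spor.He 42 :=
  minDeg_seven rel_w7 rel_w1 rel_wv rel_ws rel_sv rel_g

/-- the degree of a character with a zero -/
theorem le_deg {G : Type*} [Group G] [Finite G] {b : ℕ} (hb : MinDeg G b) {χ : IrrCharacter G} {x : G}
    (h : Cfsg.Agent.H732.VZ.One χ x) : b ≤ charDegree (χ : G → ℂ) := by
  obtain ⟨m, ρ, hρ, hχ⟩ := χ.2
  have h3 := Cfsg.Agent.H686.CharKit.charDegree_irr χ
  rw [← hχ, Representation.char_one] at h3
  have h4 : charDegree (χ : G → ℂ) = Module.finrank ℂ (Fin m → ℂ) := by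
    rw [← hχ]; exact_mod_cast h3
  rw [h4]
  refine hb _ ρ ?_
  by_contra hcon
  push Not at hcon
  have h5 := h.zero
  rw [← hχ] at h5
  have h6 : LinearMap.trace ℂ (Fin m → ℂ) (ρ x) = 0 := h5
  rw [hcon x, LinearMap.trace_one] at h6
  have h7 := Cfsg.Agent.H604.OZ.deg_pos χ
  rw [h4] at h7
  have h8 : Module.finrank ℂ (Fin m → ℂ) = 0 := by exact_mod_cast h6
  omega

end Cfsg.Agent.H30.OZ.HeMin
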