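import Cfsg.Agent.H868.Dl.HeCls
import Cfsg.Agent.H348.PPD.HeCent
import Cfsg.Agent.H153.ZerosHe
import Cfsg.Agent.H793.MS.HeRun

/-!
# Classes of the Held group (helper30, S4842)

Centralizers and conjugacy of powers for elements of orders 4, 5, 7, 8 and for the involution `d`.
-/

set_option autoImplicit false
set_option maxRecDepth 100000

namespace Cfsg.Agent.H30.OZ.HeDat

open Subgroup Cfsg
open Cfsg.Spor Cfsg.Spor.He Cfsg.Agent.SporadicB.HePerm Cfsg.Agent.FixBN.HeStab Cfsg.Agent.KFacts.He.Lv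
open Cfsg.Agent.CpAutHe.Cnt Cfsg.Agent.H153.Zeros.He17 Cfsg.Agent.H19.Odd.HeCnt
open Cfsg.Agent.H868.Dl.HeCls (W8 order_eight card_eight)

/-- an element of order 5 -/
def W5 : List Gen := [.a, .c, .d]
/-- an element of order 7, class 7D -/
def W7 : List Gen := [.d, .c, .b, .g, .d, .g, .f, .d, .c, .b, .g, .d, .g, .f]
/-- an element of order 4, class 4C -/
def W4 : List Gen := [.b, .f, .g]

def l5 : List Stp := [⟨511, [], [1], 150⟩, ⟨1628, [511, 629, 706, 1460], [2], 1⟩, ⟨1873, [590, 821, 706, 589], [], 1⟩,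
  ⟨120, [511, 1873, 1860], [], 1⟩, ⟨823, [1760, 131, 1860, 1873, 232], [], 2⟩, ⟨0, [823, 1756, 233], [], 1⟩,
  ⟨1, [1341, 1460, 821, 823, 1435], [], 1⟩, ⟨32, [233, 1460, 1860, 823], [], 1⟩, ⟨8, [1341, 1127, 131, 1], [], 1⟩]

def l7 : List Stp := [⟨168, [], [1], 98⟩, ⟨753, [1557, 291, 168, 120], [], 1⟩, ⟨1265, [125, 1557, 276, 168, 344], [], 2⟩,
  ⟨0, [231, 291, 1258, 619], [], 1⟩, ⟨32, [1022, 1258, 1369, 665, 98], [], 1⟩, ⟨8, [168, 231, 1022, 616], [], 1⟩]

def l4 : List Stp := [⟨343, [], [1, 2], 16⟩, ⟨1172, [263], [1], 8⟩, ⟨856, [854, 263, 1172, 343], [1], 1⟩,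
  ⟨1609, [1172, 263, 343, 1176, 2002], [], 1⟩, ⟨0, [1264, 1824, 854, 1920, 263], [], 1⟩,
  ⟨1, [0, 1609, 263, 2046, 1901, 1264, 1936, 2002, 856, 16], [], 1⟩, ⟨32, [1824, 1264, 1172, 1936], [], 1⟩,
  ⟨8, [1936, 854, 16, 1264], [], 1⟩]

open Cfsg.Agent.H793.MS.HeRun (okk fl run_cut okk_cut)

theorem run5a : okk W5 (l5.take 2) [] = true := by decide +kernel
theorem run5b : okk W5 ((l5.drop 2).take 4) (fl W5 (l5.take 2) []) = true := by decide +kernel
theorem run5c : run W5 ((l5.drop 2).drop 4) (fl W5 ((l5.drop 2).take 4) (fl W5 (l5.take 2) [])) = true := by decide +kernel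
theorem run5 : run W5 l5 [] = true := run_cut 2 run5a (run_cut 4 run5b run5c)
theorem run7a : okk W7 (l7.take 2) [] = true := by decide +kernel
theorem run7b : run W7 (l7.drop 2) (fl W7 (l7.take 2) []) = true := by decide +kernel
theorem run7 : run W7 l7 [] = true := run_cut 2 run7a run7b
theorem run4a : okk W4 (l4.take 3) [] = true := by decide +kernel
theorem run4b : okk W4 ((l4.drop 3).take 2) (fl W4 (l4.take 3) []) = true := by decide +kernel
theorem run4c : run W4 ((l4.drop 3).drop 2) (fl W4 ((l4.drop 3).take 2) (fl W4 (l4.take 3) [])) = true := by decide +kernel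
theorem run4 : run W4 l4 [] = true := run_cut 3 run4a (run_cut 2 run4b run4c)

theorem cent5 : Nat.card ↥(centralizer ({wd W5} : Set Cfsg.Spor.He)) ≤ 300 := card_le run5 (by decide)
theorem cent7 : Nat.card ↥(centralizer ({wd W7} : Set Cfsg.Spor.He)) ≤ 196 := card_le run7 (by decide)
theorem cent4 : Nat.card ↥(centralizer ({wd W4} : Set Cfsg.Spor.He)) ≤ 128 := card_le run4 (by decide)

theorem o5 : orderOf (wd W5) = 5 := hasOrd_word (by norm_num) [5] (by decide +kernel) (by decide +kernel)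
theorem o7 : orderOf (wd W7) = 7 := hasOrd_word (by norm_num) [7] (by decide +kernel) (by decide +kernel)
theorem o4 : orderOf (wd W4) = 4 := hasOrd_word (by norm_num) [2] (by decide +kernel) (by decide +kernel)
theorem o2 : orderOf (wd [.d]) = 2 := hasOrd_word (by norm_num) [2] (by decide +kernel) (by decide +kernel)
theorem o10 : orderOf (wd [.c, .d]) = 10 := hasOrd_word (by norm_num) [2, 5] (by decide +kernel) (by decide +kernel)
theorem o14 : orderOf (wd [.d, .c, .b, .g, .d, .g, .f]) = 14 :=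
  hasOrd_word (by norm_num) [2, 7] (by decide +kernel) (by decide +kernel)
theorem o3 : orderOf (wd [.b, .c]) = 3 := hasOrd_word (by norm_num) [3] (by decide +kernel) (by decide +kernel)
theorem o6 : orderOf (wd [.a, .b, .c]) = 6 := hasOrd_word (by norm_num) [2, 3] (by decide +kernel) (by decide +kernel)

/-- conjugate words -/
theorem conj_of {a b c : List Gen} (h : chkB (c ++ a) (b ++ c) = true) : IsConj (wd a) (wd b) := by
  have h1 := eq_of_chkB h
  rw [wd_append, wd_append] at h1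
  exact isConj_iff.2 ⟨wd c, by rw [h1, mul_inv_cancel_right]⟩

theorem conj_pw {a c : List Gen} {k : ℕ} (h : chkB (c ++ a) (pw a k ++ c) = true) : IsConj (wd a) (wd a ^ k) := by
  rw [← wd_pw]
  exact conj_of h

theorem conj5 : IsConj (wd W5) (wd W5 ^ 2) :=
  conj_pw (c := [.b, .a, .b, .e, .d, .c, .d, .e]) (by decide +kernel)

theorem conj7 : IsConj (wd W7) (wd W7 ^ 2) :=
  conj_pw (c := [.a, .b, .c, .d, .f, .d, .c, .d, .c, .e, .d, .b, .c, .d, .c, .d, .b]) (by decide +kernel)

theorem conj4 : IsConj (wd W4) (wd W4 ^ 3) := conj_pw (c := [.f]) (by decide +kernel)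

theorem conj8_3 : IsConj (wd W8) (wd W8 ^ 3) :=
  conj_pw (c := [.c, .e, .d, .c, .b, .d, .f, .d, .c, .d, .f, .e, .d, .b, .c, .d, .f, .b, .c, .d, .e, .c]) (by decide +kernel)

theorem conj8_5 : IsConj (wd W8) (wd W8 ^ 5) :=
  conj_pw (c := [.e, .d, .c, .d, .f, .e, .d, .c, .d, .f]) (by decide +kernel)

instance finite_he : Finite Cfsg.Spor.He := Nat.finite_of_card_ne_zero (by
  rw [Cfsg.Agent.KFacts.He.Classes.card_he]; norm_num)

/-- an element outside of `⟨y⟩` commuting with `y` -/
theorem two_mul_le {G : Type*} [Group G] [Finite G] {y t : G} (h : t * y = y * t) (ht : ∀ k < orderOf y, t ≠ y ^ k) :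
    2 * orderOf y ≤ Nat.card ↥(centralizer ({y} : Set G)) := by
  classical
  have hle : zpowers y ≤ centralizer ({y} : Set G) := by
    rw [zpowers_le, mem_centralizer_singleton_iff]
  have htc : t ∈ centralizer ({y} : Set G) := by rw [mem_centralizer_singleton_iff]; exact h
  have hd : orderOf y ∣ Nat.card ↥(centralizer ({y} : Set G)) := by
    rw [← Nat.card_zpowers]; exact card_dvd_of_le hle
  obtain ⟨m, hm⟩ := hd
  have hm1 : m ≠ 1 := by
    rintro rfl
    rw [mul_one] at hm
    have h1 : zpowers y = centralizer ({y} : Set G) := eq_of_le_of_card_ge hle (by rw [hm, Nat.card_zpowers])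
    rw [← h1, mem_zpowers_iff_mem_range_orderOf, Finset.mem_image] at htc
    obtain ⟨k, hk, hkt⟩ := htc
    exact ht k (Finset.mem_range.1 hk) hkt.symm
  have hm0 : m ≠ 0 := by
    rintro rfl
    rw [mul_zero] at hm
    exact Nat.card_pos.ne' hm
  rw [hm, mul_comm]
  exact Nat.mul_le_mul_left _ (by omega)

theorem ne_of_act {v w : List Gen} (i : Fin 2058) (h : Nat.beq (act v i) (act w i) = false) : wd v ≠ wd w := by
  intro he
  have h1 : act v i = act w i := by rw [← phi_wd_apply, ← phi_wd_apply, he]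
  rw [h1, Nat.beq_refl] at h
  exact absurd h (by simp)

theorem cent8_ge : 16 ≤ Nat.card ↥(centralizer ({wd W8} : Set Cfsg.Spor.He)) := by
  have h1 : wd [.a] * wd W8 = wd W8 * wd [.a] := by
    have h := eq_of_chkB (v := [.a] ++ W8) (w := W8 ++ [.a]) (by decide +kernel)
    rwa [wd_append, wd_append] at h
  have h2 := two_mul_le h1 (by
    rw [order_eight]
    intro k hk
    rw [← wd_pw]
    interval_cases k
    · exact ne_of_act 8 (by decide +kernel)
    · exact ne_of_act 8 (by decide +kernel)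
    · exact ne_of_act 8 (by decide +kernel)
    · exact ne_of_act 8 (by decide +kernel)
    · exact ne_of_act 8 (by decide +kernel)
    · exact ne_of_act 8 (by decide +kernel)
    · exact ne_of_act 8 (by decide +kernel)
    · exact ne_of_act 8 (by decide +kernel))
  rwa [order_eight] at h2

theorem cent4_ge : 8 ≤ Nat.card ↥(centralizer ({wd W4} : Set Cfsg.Spor.He)) := by
  have h1 : wd [.b] * wd W4 = wd W4 * wd [.b] := by
    have h := eq_of_chkB (v := [.b] ++ W4) (w := W4 ++ [.b]) (by decide +kernel)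
    rwa [wd_append, wd_append] at h
  have h2 := two_mul_le h1 (by
    rw [o4]
    intro k hk
    rw [← wd_pw]
    interval_cases k
    · exact ne_of_act 0 (by decide +kernel)
    · exact ne_of_act 0 (by decide +kernel)
    · exact ne_of_act 0 (by decide +kernel)
    · exact ne_of_act 0 (by decide +kernel))
  rwa [o4] at h2

theorem centd : Nat.card ↥(centralizer ({wd [.d]} : Set Cfsg.Spor.He)) = 21504 := by
  obtain ⟨k, hk⟩ := Cfsg.Agent.KFacts.He.Classes.z_d
  have h1 : wd [.d] = k * Cfsg.Agent.KFacts.He.Bound.z * k⁻¹ := by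
    rw [hk]
    simp [wd]
  have h2 : centralizer ({wd [.d]} : Set Cfsg.Spor.He) =
      (centralizer ({Cfsg.Agent.KFacts.He.Bound.z} : Set Cfsg.Spor.He)).map (MulAut.conj k).toMonoidHom := by
    ext g
    rw [h1, mem_centralizer_singleton_iff, mem_map]
    constructor
    · intro h
      refine ⟨k⁻¹ * g * k, ?_, by simp [mul_assoc]⟩
      rw [mem_centralizer_singleton_iff]
      calc k⁻¹ * g * k * Cfsg.Agent.KFacts.He.Bound.z
          = k⁻¹ * (g * (k * Cfsg.Agent.KFacts.He.Bound.z * k⁻¹)) * k := by group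
        _ = k⁻¹ * ((k * Cfsg.Agent.KFacts.He.Bound.z * k⁻¹) * g) * k := by rw [h]
        _ = Cfsg.Agent.KFacts.He.Bound.z * (k⁻¹ * g * k) := by group
    · rintro ⟨g', hg', rfl⟩
      rw [mem_centralizer_singleton_iff] at hg'
      simp only [MulEquiv.coe_toMonoidHom, MulAut.conj_apply]
      calc k * g' * k⁻¹ * (k * Cfsg.Agent.KFacts.He.Bound.z * k⁻¹)
          = k * (g' * Cfsg.Agent.KFacts.He.Bound.z) * k⁻¹ := by group
        _ = k * (Cfsg.Agent.KFacts.He.Bound.z * g') * k⁻¹ := by rw [hg']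
        _ = k * Cfsg.Agent.KFacts.He.Bound.z * k⁻¹ * (k * g' * k⁻¹) := by group
  rw [h2, card_map_of_injective (MulEquiv.injective _), Cfsg.Agent.KFacts.He.Classes.card_centralizer]

end Cfsg.Agent.H30.OZ.HeDat
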